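import Cfsg.Agent.H367.Rec.Defs
import Cfsg.Agent.H414.GoodKnown
import Cfsg.Agent.H414.Rad
import Cfsg.Agent.Schreier.Assembly
import Cfsg.Agent.H171.ThreePrimes

/-!
# `Dat.solv` : solvability of `N` when there is a prime not adjacent to `2` (task REC-SOLV)
-/

set_option autoImplicit false
set_option linter.unusedSectionVars false

namespace Cfsg.Agent.H532.Rec

open Cfsg Subgroup Cfsg.Agent.H367.Rec Cfsg.Agent.H414.Comp Cfsg.Agent.H414.Rad Cfsg.Agent.H414.Adj

universe u

/-! ### Numbers -/

theorem sg_prime {p : ℕ} (hp : p.Prime) : sg p = p := by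
  unfold sg
  rw [Nat.Prime.primeFactors hp, Finset.sum_singleton, Nat.Prime.factorization_self hp, pow_one]

theorem sg_two {p q : ℕ} (hp : p.Prime) (hq : q.Prime) (h : p ≠ q) : sg (p * q) = p + q := by
  have hcop : Nat.Coprime p q := (Nat.coprime_primes hp hq).2 h
  unfold sg
  have h1 : (p * q).primeFactors = {p, q} := by
    rw [Nat.Coprime.primeFactors_mul hcop, Nat.Prime.primeFactors hp, Nat.Prime.primeFactors hq]
    rfl
  have hpq : p.factorization q = 0 := Nat.factorization_eq_zero_of_not_dvd fun h2 =>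
    h ((Nat.prime_dvd_prime_iff_eq hq hp).1 h2).symm
  have hqp : q.factorization p = 0 := Nat.factorization_eq_zero_of_not_dvd fun h2 =>
    h ((Nat.prime_dvd_prime_iff_eq hp hq).1 h2)
  have hmul := Nat.factorization_mul hp.ne_zero hq.ne_zero
  rw [h1, Finset.sum_pair h, hmul]
  simp only [Finsupp.coe_add, Pi.add_apply]
  rw [Nat.Prime.factorization_self hp, Nat.Prime.factorization_self hq, hpq, hqp]
  simp

section

variable {G : Type u} [Group G] [Finite G] {b n : ℕ}

theorem dvd_card_iff (hb : b ≤ 2) (hn : 13 ≤ n) (h : Spec b n G) {p : ℕ} (hp : p.Prime) :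
    p ∣ Nat.card G ↔ p ≤ n := by
  constructor
  · intro hd
    have : Fact p.Prime := ⟨hp⟩
    obtain ⟨g, hg⟩ := exists_prime_orderOf_dvd_card' p hd
    have h1 := ((h p).1 ⟨g, hg⟩).2.1
    rwa [sg_prime hp] at h1
  · intro hle
    obtain ⟨g, hg⟩ := (h p).2 ⟨hp.ne_zero, by rw [sg_prime hp]; exact hle, fun he => by
      rw [sg_prime hp]
      have : p = 2 := (Nat.Prime.even_iff hp).1 he
      omega⟩
    rw [← hg]
    exact orderOf_dvd_natCard g

omit [Finite G] in
theorem not_two_mul (h : Spec b n G) {r : ℕ} (hr : r.Prime) (hr2 : n < r + 2 + b) (h2 : r ≠ 2) :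
    ¬ ∃ x : G, orderOf x = 2 * r := by
  intro hx
  have h1 := ((h _).1 hx).2.2 (even_two_mul r)
  rw [sg_two Nat.prime_two hr h2.symm] at h1
  omega

end

/-- three primes with pairwise sums `> n`, two of them `≥ 11` -/
theorem exists_coc {n : ℕ} (hn : 13 ≤ n) : ∃ (C : Finset ℕ) (x y : ℕ), Coc n C ∧ 3 ≤ C.card ∧ x ∈ C ∧ y ∈ C ∧ x ≠ y ∧
    11 ≤ x ∧ 11 ≤ y := by
  rcases Nat.lt_or_ge n 17 with h | h
  · refine ⟨{7, 11, 13}, 11, 13, ⟨?_, ?_, ?_⟩, by decide, by decide, by decide, by decide, le_rfl, by norm_num⟩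
    · intro p hp
      simp only [Finset.mem_insert, Finset.mem_singleton] at hp
      rcases hp with rfl | rfl | rfl <;> norm_num
    · intro p hp
      simp only [Finset.mem_insert, Finset.mem_singleton] at hp
      rcases hp with rfl | rfl | rfl <;> omega
    · intro p hp q hq hpq
      simp only [Finset.mem_insert, Finset.mem_singleton] at hp hq
      rcases hp with rfl | rfl | rfl <;> rcases hq with rfl | rfl | rfl <;> omega
  · obtain ⟨p, q, r, hp, hq, hr, h1, h2, h3, h4⟩ := H171.ThreePrimes.exists_three_primes' n h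
    have hq11 : 11 ≤ q := by
      by_contra hlt
      have : q = 10 := by omega
      rw [this] at hq
      exact absurd hq (by norm_num)
    refine ⟨{p, q, r}, q, r, ⟨?_, ?_, ?_⟩, ?_, by simp, by simp, by omega, hq11, by omega⟩
    · intro x hx
      simp only [Finset.mem_insert, Finset.mem_singleton] at hx
      rcases hx with rfl | rfl | rfl <;> assumption
    · intro x hx
      simp only [Finset.mem_insert, Finset.mem_singleton] at hx
      rcases hx with rfl | rfl | rfl <;> omega
    · intro x hx y hy hxy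
      simp only [Finset.mem_insert, Finset.mem_singleton] at hx hy
      rcases hx with rfl | rfl | rfl <;> rcases hy with rfl | rfl | rfl <;> omega
    · rw [Finset.card_insert_of_notMem, Finset.card_insert_of_notMem, Finset.card_singleton]
      · simp only [Finset.mem_singleton]; omega
      · simp only [Finset.mem_insert, Finset.mem_singleton]; omega

/-! ### Groups with a simple normal subgroup with trivial centralizer -/

theorem bot_or_le {Q : Type*} [Group Q] {S : Subgroup Q} (hSn : S.Normal) (hs : IsSimpleGroup ↥S)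
    (hC : Subgroup.centralizer (S : Set Q) = ⊥) {L : Subgroup Q} (hL : L.Normal) : L = ⊥ ∨ S ≤ L := by
  have h1 : (L.subgroupOf S).Normal := inferInstance
  rcases h1.eq_bot_or_eq_top with h3 | h3
  · left
    rw [Subgroup.subgroupOf_eq_bot] at h3
    rw [eq_bot_iff, ← hC]
    intro t ht
    rw [Subgroup.mem_centralizer_iff]
    intro s hs
    exact Subgroup.commute_of_normal_of_disjoint S L hSn hL h3.symm s t hs ht
  · exact Or.inr (Subgroup.subgroupOf_eq_top.1 h3)

theorem exists_noncomm {K : Type*} [Group K] (h : ¬ IsMulCommutative K) : ∃ a b : K, a * b ≠ b * a := by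
  by_contra hcon
  push Not at hcon
  exact h ⟨⟨hcon⟩⟩

theorem not_solvable {K : Type*} [Group K] [IsSimpleGroup K] (h : ¬ IsMulCommutative K) : ¬ Group.IsSolvable K :=
  fun hs => h ⟨⟨IsSimpleGroup.comm_iff_isSolvable.2 hs⟩⟩

open Cfsg.Agent.Schreier.Basic in
/-- The quotient by a normal subgroup with trivial centralizer and the Schreier property is solvable. -/
theorem solvable_quotient {G : Type*} [Group G] [Finite G] {K : Subgroup G} (hK : K.Normal) (hS : Sch K)
    (hc : Subgroup.centralizer (K : Set G) = ⊥) : Group.IsSolvable (G ⧸ K) := by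
  classical
  have := hK
  let φ : G →* MulAut K := MulAut.conjNormal
  have hφ : ∀ (g : G) (k : K), ((φ g k : K) : G) = g * k * g⁻¹ := fun g k => MulAut.conjNormal_apply _ _
  have hinj : Function.Injective φ := by
    rw [injective_iff_map_eq_one]
    intro g hg
    have h1 : g ∈ Subgroup.centralizer (K : Set G) := by
      rw [Subgroup.mem_centralizer_iff]
      intro k hk
      have h2 := hφ g ⟨k, hk⟩
      rw [hg] at h2
      change k = g * k * g⁻¹ at h2
      rw [eq_mul_inv_iff_mul_eq] at h2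
      exact h2
    rwa [hc, Subgroup.mem_bot] at h1
  -- perfect subgroups lie in `K`
  have hperf : ∀ D : Subgroup G, ⁅D, D⁆ = D → D ≤ K := by
    intro D hD x hx
    obtain ⟨k, hk⟩ := hS (D.map φ) (map_perfect φ hD) ⟨x, hx, rfl⟩
    have h1 : φ (k : G) = φ x := by
      rw [← hk]
      refine MulEquiv.ext fun y => Subtype.ext ?_
      rw [hφ]
      rfl
    rw [← hinj h1]
    exact k.2
  have hanti : Antitone (derivedSeries G) := derivedSeries_antitone G
  have hst : ∃ n, derivedSeries G (n + 1) = derivedSeries G n := by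
    by_contra hcon
    push Not at hcon
    have hlt : ∀ n, derivedSeries G (n + 1) < derivedSeries G n := fun n =>
      lt_of_le_of_ne (hanti (Nat.le_succ n)) (hcon n)
    have hsa : StrictAnti (derivedSeries G) := strictAnti_nat_of_succ_lt hlt
    exact not_injective_infinite_finite _ hsa.injective
  obtain ⟨n, hn⟩ := hst
  refine ⟨n, ?_⟩
  rw [← map_derivedSeries_eq (QuotientGroup.mk'_surjective K), Subgroup.map_eq_bot_iff, QuotientGroup.ker_mk']
  exact hperf _ (by rw [← derivedSeries_succ, hn])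

/-- the product of a solvable normal subgroup and a solvable subgroup -/
theorem isSolvable_sup {G : Type*} [Group G] {N A : Subgroup G} [N.Normal] (hN : Group.IsSolvable ↥N)
    (hA : Group.IsSolvable ↥A) : Group.IsSolvable ↥(N ⊔ A) := by
  set f : G →* G ⧸ N := QuotientGroup.mk' N with hf
  have hker : f.ker = N := QuotientGroup.ker_mk' N
  have hmap : (N ⊔ A).map f = A.map f := by
    rw [Subgroup.map_sup, (Subgroup.map_eq_bot_iff (f := f) N).mpr hker.ge, bot_sup_eq]
  have hA' : Group.IsSolvable ↥((N ⊔ A).map f) := by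
    rw [hmap]
    exact Group.isSolvable_of_surjective (f := f.subgroupMap A) (f.subgroupMap_surjective A)
  refine Group.isSolvable_of_ker_le_range (Subgroup.inclusion (le_sup_left : N ≤ N ⊔ A))
    (f.subgroupMap (N ⊔ A)) ?_
  rintro ⟨x, hx⟩ hx1
  rw [MonoidHom.mem_ker] at hx1
  have h1 : f x = 1 := congrArg Subtype.val hx1
  rw [← MonoidHom.mem_ker, hker] at h1
  exact ⟨⟨x, h1⟩, rfl⟩

theorem exists_radical (G : Type*) [Group G] [Finite G] : ∃ K : Subgroup G, K.Normal ∧ Group.IsSolvable ↥K ∧
    ∀ M : Subgroup G, M.Normal → Group.IsSolvable ↥M → M ≤ K := by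
  have hfin : (Set.Finite {N : Subgroup G | N.Normal ∧ Group.IsSolvable ↥N}) := Set.toFinite _
  obtain ⟨K, hK⟩ := hfin.exists_maximal ⟨⊥, (inferInstance : (⊥ : Subgroup G).Normal), inferInstance⟩
  obtain ⟨hKn, hKs⟩ := hK.prop
  refine ⟨K, hKn, hKs, fun M hM hMs => ?_⟩
  have hs : Group.IsSolvable ↥(K ⊔ M : Subgroup G) := isSolvable_sup hKs hMs
  exact le_sup_right.trans (hK.le_of_ge (⟨Subgroup.sup_normal K M, hs⟩ :
    (K ⊔ M : Subgroup G) ∈ {N : Subgroup G | N.Normal ∧ Group.IsSolvable ↥N}) le_sup_left)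

/-- `G / K` has no solvable normal subgroups. -/
theorem quot_radical {G : Type*} [Group G] (K : Subgroup G) [K.Normal] (hK : Group.IsSolvable ↥K)
    (hKmax : ∀ M : Subgroup G, M.Normal → Group.IsSolvable ↥M → M ≤ K) (M : Subgroup (G ⧸ K)) (hM : M.Normal)
    (hs : Group.IsSolvable ↥M) : M = ⊥ := by
  set N : Subgroup G := M.comap (QuotientGroup.mk' K) with hN
  have hKN : K ≤ N := by
    intro k hk
    rw [hN, Subgroup.mem_comap]
    have h1 : QuotientGroup.mk' K k = 1 := (QuotientGroup.eq_one_iff k).2 hk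
    rw [h1]
    exact one_mem M
  have hNs : Group.IsSolvable ↥N := by
    let g : ↥N →* ↥M := ((QuotientGroup.mk' K).domRestrict N).codRestrict M fun y => y.2
    refine Group.isSolvable_of_ker_le_range (Subgroup.inclusion hKN) g ?_
    intro y hy
    have h1 := congrArg Subtype.val ((MonoidHom.mem_ker).1 hy)
    have h2 : (y : G) ∈ K := (QuotientGroup.eq_one_iff (y : G)).1 h1
    exact ⟨⟨y, h2⟩, rfl⟩
  have h1 := hKmax N inferInstance hNs
  rw [eq_bot_iff]
  intro m hm
  obtain ⟨g, rfl⟩ := QuotientGroup.mk'_surjective K m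
  have h2 : g ∈ K := h1 hm
  rw [Subgroup.mem_bot]
  exact (QuotientGroup.eq_one_iff g).2 h2

section

variable {G : Type u} [Group G] [Finite G] {b n : ℕ} {N : Subgroup G} [N.Normal] {S : Subgroup (G ⧸ N)}

/-- solvable normal subgroups lie in `N` -/
theorem le_of_solvable (D : Dat n N S) {K : Subgroup G} (hK : K.Normal) (hs : Group.IsSolvable ↥K) : K ≤ N := by
  have hsimple := D.simple
  have h1 : (K.map (QuotientGroup.mk' N)).Normal := hK.map _ (QuotientGroup.mk'_surjective N)
  rcases bot_or_le D.normal D.simple D.cent h1 with h | h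
  · intro k hk
    have h2 : QuotientGroup.mk' N k ∈ K.map (QuotientGroup.mk' N) := ⟨k, hk, rfl⟩
    rw [h, Subgroup.mem_bot] at h2
    exact (QuotientGroup.eq_one_iff k).1 h2
  · exfalso
    apply not_solvable D.nonab
    have h2 : Group.IsSolvable ↥(K.map (QuotientGroup.mk' N)) :=
      Group.isSolvable_of_surjective (f := (QuotientGroup.mk' N).subgroupMap K)
        ((QuotientGroup.mk' N).subgroupMap_surjective K)
    exact Group.isSolvable_of_isSolvable_injective (Subgroup.inclusion_injective h)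

theorem Dat.isComp (D : Dat n N S) : IsComp S := isComp_of_normal D.normal D.simple (exists_noncomm D.nonab)

theorem card_eq (N : Subgroup G) [N.Normal] (S : Subgroup (G ⧸ N)) :
    Nat.card G = Nat.card ↥N * S.index * Nat.card ↥S := by
  rw [Subgroup.card_eq_card_quotient_mul_card_subgroup N, ← Subgroup.card_mul_index S]
  ring

/-- `S` is not `A₇` -/
theorem not_alt_seven (hb : b ≤ 2) (hn : 13 ≤ n) (h : Spec b n G) (D : Dat n N S)
    (e : Nonempty (↥S ≃* alternatingGroup (Fin 7))) : False := by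
  obtain ⟨e⟩ := e
  obtain ⟨C, x, y, hC, hC3, hx, hy, hxy, hx11, hy11⟩ := exists_coc hn
  have hcard : Nat.card ↥S = 2520 := by
    rw [Nat.card_congr e.toEquiv, nat_card_alternatingGroup]
    simp [Nat.card_eq_fintype_card, Nat.factorial]
  have key : ∀ z ∈ C, 11 ≤ z → z ∣ Nat.card ↥N * S.index := by
    intro z hz h11
    have hzp := hC.prime z hz
    have h1 : z ∣ Nat.card G := (dvd_card_iff hb hn h hzp).2 (hC.le z hz)
    rw [card_eq N S] at h1
    refine (hzp.dvd_mul.1 h1).resolve_right fun h2 => ?_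
    rw [hcard] at h2
    have h3 : (2520 : ℕ) = 2 ^ 3 * 3 ^ 2 * 5 * 7 := by norm_num
    rw [h3] at h2
    rcases hzp.dvd_mul.1 h2 with h2 | h2
    · rcases hzp.dvd_mul.1 h2 with h2 | h2
      · rcases hzp.dvd_mul.1 h2 with h2 | h2
        · have := Nat.le_of_dvd (by norm_num) (hzp.dvd_of_dvd_pow h2); omega
        · have := Nat.le_of_dvd (by norm_num) (hzp.dvd_of_dvd_pow h2); omega
      · have := Nat.le_of_dvd (by norm_num) h2; omega
    · have := Nat.le_of_dvd (by norm_num) h2; omega
  exact hxy (D.coc C hC hC3 x hx y hy (key x hx hx11) (key y hy hy11))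

/-- **Solvability of `N`.** -/
theorem Dat.solv (hb : b ≤ 2) (hn : 13 ≤ n) (h : Spec b n G)
    (hcl : ∀ (T : Type u) [Group T] [Finite T] [IsSimpleGroup T], IsKnownSimple' T)
    (D : Dat n N S) {r : ℕ} (hr : r.Prime) (hrn : r ≤ n) (hr2 : n < r + 2 + b) :
    Group.IsSolvable ↥N ∧ ((∀ F : Type, ∀ [Field F] [Fintype F], IsEmpty (↥S ≃* Matrix.ProjectiveSpecialLinearGroup (Fin 2) F)) →
      r ∣ Nat.card ↥S ∧ ¬ r ∣ Nat.card ↥N) := by
  have hsimple := D.simple
  have hrG : r ∣ Nat.card G := (dvd_card_iff hb hn h hr).2 hrn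
  have h2 := not_two_mul h hr hr2 (by omega)
  obtain ⟨K, hKn, hKs, hKmax⟩ := exists_radical G
  have hKN : K ≤ N := le_of_solvable D hKn hKs
  have hsol := quot_radical K hKs hKmax
  have hnt : Nontrivial (G ⧸ K) := by
    rw [QuotientGroup.nontrivial_iff]
    rintro rfl
    obtain ⟨x, hx⟩ := exists_ne (1 : ↥S)
    apply hx
    obtain ⟨g, hg⟩ := QuotientGroup.mk'_surjective N (x : G ⧸ N)
    apply Subtype.ext
    rw [← hg]
    exact (QuotientGroup.eq_one_iff g).2 (hKN (Subgroup.mem_top g))
  have hgood : ∀ T : Subgroup (G ⧸ K), IsComp T → H414.Good.Good ↥T := by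
    intro T hT
    have := hT.simple
    exact H414.GoodKnown.good_known (hcl ↥T) hT.noncomm
  obtain ⟨S', hS', hSn', hSc', hcase⟩ : ∃ S' : Subgroup (G ⧸ K), IsComp S' ∧ S'.Normal ∧
      centralizer (S' : Set (G ⧸ K)) = ⊥ ∧ (AltL2 ↥S' ∨ (¬ r ∣ Nat.card ↥K ∧ ¬ r ∣ S'.index)) := by
    by_cases hpK : r ∣ Nat.card ↥K
    · obtain ⟨S, h1, h2, h3, h4⟩ := structure_of_dvd_rad K hsol hr (by omega) hpK h2
      exact ⟨S, h1, h2, h3, Or.inl h4⟩
    · have hpX : r ∣ Nat.card (G ⧸ K) := by
        have h1 : Nat.card G = Nat.card (G ⧸ K) * Nat.card ↥K := Subgroup.card_eq_card_quotient_mul_card_subgroup K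
        rw [h1] at hrG
        exact (hr.dvd_mul.1 hrG).resolve_right hpK
      have h2 : ¬ ∃ x : G ⧸ K, orderOf x = 2 * r := fun h3 => h2 (exists_order_quot K
        (Nat.mul_ne_zero two_ne_zero hr.ne_zero) h3)
      obtain ⟨S, h3, h4, -, h5, h6⟩ := structure_of_dvd hsol hgood hr (by omega) hpX h2
      exact ⟨S, h3, h4, h6, Or.inr ⟨hpK, h5⟩⟩
  have hNK : N = K := by
    have h1 : (N.map (QuotientGroup.mk' K)).Normal :=
      (inferInstance : N.Normal).map _ (QuotientGroup.mk'_surjective K)
    rcases bot_or_le hSn' hS'.simple hSc' h1 with h3 | h3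
    · refine le_antisymm (fun k hk => ?_) hKN
      have h4 : QuotientGroup.mk' K k ∈ N.map (QuotientGroup.mk' K) := ⟨k, hk, rfl⟩
      rw [h3, Subgroup.mem_bot] at h4
      exact (QuotientGroup.eq_one_iff k).1 h4
    · exfalso
      have hs' := hS'.simple
      have h4 : Group.IsSolvable ((G ⧸ K) ⧸ S') := by
        refine solvable_quotient hSn' ?_ hSc'
        refine Schreier.Assembly.known ↥S' ?_ (hcl ↥S')
        rintro ⟨⟨hc⟩⟩
        obtain ⟨a, b, hab⟩ := hS'.noncomm
        exact hab (hc a b)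
      -- `G / N` is a quotient of `(G / K) / S'`
      let f : G ⧸ K →* G ⧸ N := QuotientGroup.map K N (MonoidHom.id G) hKN
      have hf : ∀ s ∈ S', f s = 1 := by
        intro s hs
        obtain ⟨k, hk, rfl⟩ := h3 hs
        exact (QuotientGroup.eq_one_iff k).2 hk
      let g : (G ⧸ K) ⧸ S' →* G ⧸ N := QuotientGroup.lift S' f hf
      have hg : Function.Surjective g := by
        intro y
        obtain ⟨x, rfl⟩ := QuotientGroup.mk'_surjective N y
        exact ⟨QuotientGroup.mk' S' (QuotientGroup.mk' K x), rfl⟩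
      have h5 : Group.IsSolvable (G ⧸ N) := Group.isSolvable_of_surjective hg
      exact not_solvable D.nonab (Group.isSolvable_of_isSolvable_injective S.subtype_injective)
  subst hNK
  refine ⟨hKs, fun hF => ?_⟩
  have hSS : S = S' := eq_of_normal hS' (Dat.isComp D) hSn' D.normal hSc'
  subst hSS
  rcases hcase with (h3 | ⟨F, _, _, -, h3⟩) | ⟨h3, h4⟩
  · exact (not_alt_seven hb hn h D h3).elim
  · obtain ⟨e⟩ := h3
    exact ((hF F).false e).elim
  · refine ⟨?_, h3⟩
    rw [card_eq N S] at hrG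
    rcases hr.dvd_mul.1 hrG with h5 | h5
    · rcases hr.dvd_mul.1 h5 with h5 | h5
      · exact absurd h5 h3
      · exact absurd h5 h4
    · exact h5

end

end Cfsg.Agent.H532.Rec
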