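import Cfsg.Agent.H532.Rec.Solv
import Cfsg.Agent.H531.LemX
import Cfsg.Agent.H254.CopField

/-!
# `Dat.solv_of_centralizer` : solvability of `N` from solvability of `C_N(x)` (task REC-SOLV)
-/

set_option autoImplicit false
set_option linter.unusedSectionVars false

namespace Cfsg.Agent.H532.Rec

open Cfsg Subgroup Cfsg.Agent.H367.Rec Cfsg.Agent.H414.Comp Cfsg.Agent.H414.Rad Cfsg.Agent.H414.Adj
open Cfsg.Agent.Lib.MinNormalNonabelian Cfsg.Agent.Lib.MinNormal Cfsg.Agent.H531.Red Cfsg.Agent.H531.LemX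

universe u v

/-! ### Diagonal elements -/

/-- the product of the conjugates of `t` under the powers of `x` -/
theorem diag_elt {G : Type*} [Group G] {T : Subgroup G} {x : G} {k : ℕ} (hx : x ^ (k + 1) = 1)
    (hT : ∀ i, 0 < i → i < k + 1 → ∀ a ∈ T, ∀ b ∈ T, Commute a (x ^ i * b * (x ^ i)⁻¹)) {t : G} (ht : t ∈ T) :
    Commute x ((t * x) ^ (k + 1)) ∧ ∀ s ∈ T, (t * x) ^ (k + 1) * s * ((t * x) ^ (k + 1))⁻¹ = t * s * t⁻¹ := by
  have hR : ∀ j, j ≤ k → ∀ a ∈ T, Commute a ((x * t) ^ j * (x ^ j)⁻¹) := by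
    intro j
    induction j with
    | zero => intro _ a _; simp
    | succ j ih =>
      intro hj a ha
      have h1 : (x * t) ^ (j + 1) * (x ^ (j + 1))⁻¹ =
          ((x * t) ^ j * (x ^ j)⁻¹) * (x ^ (j + 1) * t * (x ^ (j + 1))⁻¹) := by
        rw [pow_succ, pow_succ]; group
      rw [h1]
      exact (ih (by omega) a ha).mul_right (hT (j + 1) (by omega) (by omega) a ha t ht)
  set R := (x * t) ^ k * (x ^ k)⁻¹ with hRdef
  have hxk : (x ^ k)⁻¹ = x := by
    rw [inv_eq_iff_mul_eq_one, ← pow_succ, hx]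
  have hR' : R = (x * t) ^ k * x := by rw [hRdef, hxk]
  have hw : (t * x) ^ (k + 1) = t * R := by
    rw [hR', ← mul_assoc t, ← mul_pow_mul, pow_succ, mul_assoc]
  have hcomm := hR k le_rfl
  refine ⟨?_, fun s hs => ?_⟩
  · show x * (t * x) ^ (k + 1) = (t * x) ^ (k + 1) * x
    rw [hw]
    have h1 : x * (t * R) = (R * t) * x := by
      rw [hR']
      have h2 : x * (t * ((x * t) ^ k * x)) = (x * t) ^ (k + 1) * x := by
        rw [pow_succ']; group
      rw [h2, pow_succ]; group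
    rw [h1, (hcomm t ht).eq]
  · rw [hw]
    have h1 := (hcomm s hs).eq
    calc t * R * s * (t * R)⁻¹ = t * (R * s) * R⁻¹ * t⁻¹ := by group
      _ = t * (s * R) * R⁻¹ * t⁻¹ := by rw [h1]
      _ = t * s * t⁻¹ := by group

section

variable {G : Type u} [Group G] [Finite G]

attribute [local instance] act

/-- **An element of prime order with a solvable centralizer fixes the components.** -/
theorem fix_comp {N W : Subgroup G} [N.Normal] [W.Normal] (H : Str W) (hWN : W ≤ N) {p : ℕ} (hp : p.Prime) {x : G}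
    (hx : x ^ p = 1) (hsol : Group.IsSolvable ↥(centralizer ({x} : Set G) ⊓ N : Subgroup G)) (T : minSet W) :
    x • T = T := by
  by_contra hne
  obtain ⟨k, rfl⟩ : ∃ k, p = k + 1 := ⟨p - 1, by have := hp.one_lt; omega⟩
  have hT : ∀ i, 0 < i → i < k + 1 → ∀ a ∈ T.1, ∀ b ∈ T.1, Commute a (x ^ i * b * (x ^ i)⁻¹) := by
    intro i hi hik a ha b hb
    have h1 : x ^ i • T ≠ T := by
      intro h1
      apply hne
      refine smul_eq_of_coprime (m := i) (n := k + 1) ?_ h1 (by rw [hx, one_smul])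
      exact (Nat.coprime_of_lt_prime hi.ne' hik hp).symm
    refine H.comm T (x ^ i • T) (Ne.symm h1) a ha _ ?_
    rw [H531.LemX.smul_coe]
    exact ⟨b, hb, rfl⟩
  -- the action of `C_N(x) ∩ N(T)` on `T`
  let C : Subgroup G := (centralizer ({x} : Set G) ⊓ N) ⊓ normalizer (T.1 : Set G)
  have hC : Group.IsSolvable ↥C := by
    exact Group.isSolvable_of_isSolvable_injective (Subgroup.inclusion_injective (inf_le_left : C ≤ _))
  let φ : ↥C →* MulAut T.1 := (T.1.normalizerMonoidHom).comp (Subgroup.inclusion inf_le_right)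
  have hφ : Group.IsSolvable φ.range := Group.isSolvable_of_surjective (f := φ.rangeRestrict) φ.rangeRestrict_surjective
  have hle : (MulAut.conj : T.1 →* MulAut T.1).range ≤ φ.range := by
    rintro _ ⟨t, rfl⟩
    obtain ⟨h1, h2⟩ := diag_elt hx hT t.2
    set w := ((t : G) * x) ^ (k + 1) with hw
    have hwN : w ∈ N := by
      have h3 : QuotientGroup.mk' N w = 1 := by
        have h4 : QuotientGroup.mk' N (t : G) = 1 := (QuotientGroup.eq_one_iff _).2 (hWN (T.2.1 t.2))
        rw [hw, map_pow, map_mul, h4, one_mul, ← map_pow, hx, map_one]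
      exact (QuotientGroup.eq_one_iff _).1 h3
    have hwT : w ∈ normalizer (T.1 : Set G) := by
      rw [← mem_normalizer_iff_smul]
      apply Subtype.ext
      rw [H531.LemX.smul_coe]
      ext y
      constructor
      · rintro ⟨s, hs, rfl⟩
        show w * s * w⁻¹ ∈ T.1
        rw [h2 s hs]
        exact mul_mem (mul_mem t.2 hs) (inv_mem t.2)
      · intro hy
        refine ⟨(t : G)⁻¹ * y * t, mul_mem (mul_mem (inv_mem t.2) hy) t.2, ?_⟩
        show w * ((t : G)⁻¹ * y * t) * w⁻¹ = y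
        rw [h2 _ (mul_mem (mul_mem (inv_mem t.2) hy) t.2)]
        group
    refine ⟨⟨w, ⟨mem_centralizer_singleton_iff.2 h1.eq.symm, hwN⟩, hwT⟩, ?_⟩
    refine MulEquiv.ext fun s => Subtype.ext ?_
    exact h2 s s.2
  have hinj : Function.Injective (MulAut.conj : T.1 →* MulAut T.1) := by
    rw [injective_iff_map_eq_one]
    intro z hz
    apply Subtype.ext
    apply H.cen T z z.2
    intro t ht
    have h1 := congrArg Subtype.val (DFunLike.congr_fun hz (⟨t, ht⟩ : T.1))
    have h2 : (z : G) * t * (z : G)⁻¹ = t := h1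
    show (z : G) * t = t * z
    rw [mul_inv_eq_iff_eq_mul] at h2
    exact h2
  apply H.not_solvable T
  let ψ : T.1 →* φ.range := (MulAut.conj : T.1 →* MulAut T.1).codRestrict φ.range fun t => hle ⟨t, rfl⟩
  refine Group.isSolvable_of_isSolvable_injective (f := ψ) ?_
  intro a b hab
  exact hinj (congrArg Subtype.val hab)

theorem derivedSeries_eq_top {S : Type*} [Group S] [IsSimpleGroup S] (hna : ¬ IsMulCommutative S) (n : ℕ) :
    derivedSeries S n = ⊤ := by
  induction n with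
  | zero => rfl
  | succ n ih =>
    rw [derivedSeries_succ, ih]
    rcases (inferInstance : (⁅(⊤ : Subgroup S), (⊤ : Subgroup S)⁆).Normal).eq_bot_or_eq_top with h | h
    · exfalso
      apply not_solvable hna
      exact ⟨1, by rw [derivedSeries_succ, derivedSeries_zero, h]⟩
    · exact h

/-- **The core.** -/
theorem core {Q : Type v} [Group Q] (f : G →* Q) (hf : Function.Surjective f) {S : Subgroup Q} (hSn : S.Normal)
    (hS : IsSimpleGroup ↥S) (hna : ¬ IsMulCommutative ↥S) {p : ℕ} (hp : p.Prime) (hpN : ¬ p ∣ Nat.card f.ker) {x : G}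
    (hx : x ^ p = 1) (hxS : f x ∈ S) (hx1 : f x ≠ 1)
    (hsol : Group.IsSolvable ↥(centralizer ({x} : Set G) ⊓ f.ker : Subgroup G)) {W : Subgroup G} [W.Normal]
    (H : Str W) (hW : W ≤ f.ker) (hout : ∀ T : minSet W, Group.IsSolvable (Cfsg.Out T.1)) : False := by
  have hfix := fix_comp H hW hp hx hsol
  obtain ⟨T0, hT0⟩ := H.nonempty
  set T : minSet W := ⟨T0, hT0⟩ with hT
  set E : Subgroup G := Subgroup.normalClosure {x} with hE
  have hxE : x ∈ E := Subgroup.subset_normalClosure rfl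
  have hEn : E.Normal := Subgroup.normalClosure_normal
  have hEk : E ≤ (MulAction.toPermHom G (minSet W)).ker := by
    apply Subgroup.normalClosure_le_normal
    intro y hy
    rw [Set.mem_singleton_iff.1 hy]
    show MulAction.toPermHom G (minSet W) x = 1
    ext1 U
    exact hfix U
  have hET : E ≤ normalizer (T.1 : Set G) := by
    intro g hg
    rw [← mem_normalizer_iff_smul]
    have h1 : MulAction.toPermHom G (minSet W) g = 1 := hEk hg
    exact DFunLike.congr_fun h1 T
  let φ : ↥E →* MulAut T.1 := (T.1.normalizerMonoidHom).comp (Subgroup.inclusion hET)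
  have hφ : ∀ (e : ↥E) (t : T.1), ((φ e t : T.1) : G) = e * t * (e : G)⁻¹ := fun e t => rfl
  let θ : ↥E →* Cfsg.Out T.1 := (QuotientGroup.mk' (Cfsg.Inn T.1)).comp φ
  -- `E` maps onto `S`
  have hES : ∀ e : ↥E, f e ∈ S := by
    intro e
    have h1 : E ≤ S.comap f := by
      apply Subgroup.normalClosure_le_normal
      rintro _ rfl
      exact hxS
    exact h1 e.2
  let fE : ↥E →* ↥S := (f.comp E.subtype).codRestrict S hES
  have hfE : Function.Surjective fE := by
    have h1 : (E.map f).Normal := hEn.map f hf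
    have h2 : ((E.map f).subgroupOf S).Normal := inferInstance
    rcases h2.eq_bot_or_eq_top with h3 | h3
    · exfalso
      apply hx1
      have h4 : (⟨f x, hxS⟩ : ↥S) ∈ (E.map f).subgroupOf S := by
        rw [Subgroup.mem_subgroupOf]
        exact ⟨x, hxE, rfl⟩
      rw [h3, Subgroup.mem_bot] at h4
      exact congrArg Subtype.val h4
    · rintro ⟨s, hs⟩
      obtain ⟨e, he, h4⟩ := (Subgroup.subgroupOf_eq_top.1 h3) hs
      exact ⟨⟨e, he⟩, Subtype.ext h4⟩
  -- `x` acts on `T` as an inner automorphism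
  obtain ⟨n, hn⟩ := (hout T).solvable
  have h1 : (derivedSeries ↥E n).map fE = ⊤ := by
    rw [map_derivedSeries_eq hfE]
    exact derivedSeries_eq_top hna n
  obtain ⟨d, hd, hd2⟩ : fE ⟨x, hxE⟩ ∈ (derivedSeries ↥E n).map fE := by rw [h1]; trivial
  have hθd : θ d = 1 := by
    have h2 : θ d ∈ derivedSeries (Cfsg.Out T.1) n := map_derivedSeries_le_derivedSeries θ n ⟨d, hd, rfl⟩
    rw [hn, Subgroup.mem_bot] at h2
    exact h2
  set m : ↥E := d⁻¹ * ⟨x, hxE⟩ with hm
  have hmk : (m : G) ∈ f.ker := by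
    have h2 : fE m = 1 := by rw [hm, map_mul, map_inv, hd2, inv_mul_cancel]
    exact congrArg Subtype.val h2
  have hmc : m ^ Nat.card f.ker = 1 := by
    apply Subtype.ext
    exact pow_card_mem hmk
  have hθx : θ ⟨x, hxE⟩ = 1 := by
    have h2 : (⟨x, hxE⟩ : ↥E) = d * m := by rw [hm, mul_inv_cancel_left]
    have h3 : θ ⟨x, hxE⟩ = θ m := by rw [h2, map_mul, hθd, one_mul]
    have h4 : θ ⟨x, hxE⟩ ^ p = 1 := by
      rw [← map_pow]
      have h5 : (⟨x, hxE⟩ : ↥E) ^ p = 1 := Subtype.ext hx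
      rw [h5, map_one]
    have h5 : θ ⟨x, hxE⟩ ^ Nat.card f.ker = 1 := by rw [h3, ← map_pow, hmc, map_one]
    exact Subgroup.mem_bot.1 (mem_of_pow_coprime (⊥ : Subgroup (Cfsg.Out T.1))
      ((Nat.Prime.coprime_iff_not_dvd hp).2 hpN) (Subgroup.mem_bot.2 h4) (Subgroup.mem_bot.2 h5))
  have hinn : φ ⟨x, hxE⟩ ∈ Cfsg.Inn T.1 := (QuotientGroup.eq_one_iff _).1 hθx
  obtain ⟨s, hs⟩ := hinn
  have hs' : ∀ t : T.1, (s : G) * t * (s : G)⁻¹ = x * t * x⁻¹ := by
    intro t
    have h2 := congrArg Subtype.val (DFunLike.congr_fun hs t)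
    exact h2
  -- `s = 1`
  have hinj : Function.Injective (MulAut.conj : T.1 →* MulAut T.1) := by
    rw [injective_iff_map_eq_one]
    intro z hz
    apply Subtype.ext
    apply H.cen T z z.2
    intro t ht
    have h1 := congrArg Subtype.val (DFunLike.congr_fun hz (⟨t, ht⟩ : T.1))
    have h2 : (z : G) * t * (z : G)⁻¹ = t := h1
    show (z : G) * t = t * z
    rw [mul_inv_eq_iff_eq_mul] at h2
    exact h2
  have hsp : s ^ p = 1 := by
    apply hinj
    rw [map_pow, hs, map_one, ← map_pow]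
    have h5 : (⟨x, hxE⟩ : ↥E) ^ p = 1 := Subtype.ext hx
    rw [h5, map_one]
  have hs1 : s = 1 := by
    have h2 : orderOf s ∣ Nat.gcd p (Nat.card T.1) :=
      Nat.dvd_gcd (orderOf_dvd_of_pow_eq_one hsp) (orderOf_dvd_natCard s)
    have h3 : p.Coprime (Nat.card T.1) := by
      rw [Nat.Prime.coprime_iff_not_dvd hp]
      intro h4
      exact hpN (h4.trans (Subgroup.card_dvd_of_le (T.2.1.trans hW)))
    rw [h3] at h2
    exact orderOf_eq_one_iff.1 (Nat.dvd_one.1 h2)
  -- `x` centralizes `T`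
  apply H.not_solvable T
  have hle : T.1 ≤ centralizer ({x} : Set G) ⊓ f.ker := by
    intro t ht
    refine ⟨mem_centralizer_singleton_iff.2 ?_, hW (T.2.1 ht)⟩
    have h2 := hs' ⟨t, ht⟩
    rw [hs1] at h2
    have h3 : t = x * t * x⁻¹ := by simpa using h2
    rw [eq_mul_inv_iff_mul_eq] at h3
    exact h3
  exact Group.isSolvable_of_isSolvable_injective (Subgroup.inclusion_injective hle)

open Cfsg.Agent.H532.Thr in
/-- coprime action: fixed points of a quotient -/
theorem exists_lift {N K : Subgroup G} [N.Normal] [K.Normal] {p : ℕ} (hp : p.Prime)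
    (hpN : ¬ p ∣ Nat.card ↥N) {x : G} (hx : x ^ p = 1) {g : G} (hg : g ∈ N)
    (h : g⁻¹ * (x * g * x⁻¹) ∈ K) : ∃ k ∈ K, g * k ∈ N ∧ Commute x (g * k) := by
  let a : MulAut ↥N := MulAut.conjNormal x
  have ha : ∀ y : ↥N, ((a y : ↥N) : G) = x * y * x⁻¹ := fun y => MulAut.conjNormal_apply _ _
  have hcop : Cop a p := ⟨hp.pos, by
    have h1 : a ^ p = MulAut.conjNormal (x ^ p) := (map_pow _ _ _).symm
    rw [h1, hx, map_one], (Nat.Prime.coprime_iff_not_dvd hp).2 hpN⟩
  obtain ⟨k, hk, hk2⟩ := hcop.fixed_coset (H := K.subgroupOf N) (g := ⟨g, hg⟩)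
    (Inv.of_le fun y hy => by
      rw [Subgroup.mem_subgroupOf] at hy ⊢
      rw [ha]
      exact (inferInstance : K.Normal).conj_mem _ hy x)
    (by
      rw [Subgroup.mem_subgroupOf]
      exact h)
  refine ⟨k, Subgroup.mem_subgroupOf.1 hk, mul_mem hg k.2, ?_⟩
  have h1 := congrArg Subtype.val (mem_fix.1 hk2)
  rw [ha] at h1
  show x * (g * k) = g * k * x
  rw [mul_inv_eq_iff_eq_mul] at h1
  exact h1

end

section

variable {G : Type u} [Group G] [Finite G] {b n : ℕ} {N : Subgroup G} [N.Normal] {S : Subgroup (G ⧸ N)}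

/-- **Solvability of `N`**, `p` not dividing `|G/N : S|`. -/
theorem Dat.solv_of_centralizer' (hcl : ∀ (T : Type u) [Group T] [Finite T] [IsSimpleGroup T], IsKnownSimple' T)
    (D : Dat n N S) {p : ℕ} (hp : p.Prime) (hpi : ¬ p ∣ S.index) (hpN : ¬ p ∣ Nat.card ↥N) {x : G}
    (hx : orderOf x = p) (hs : Group.IsSolvable ↥(N ⊓ Subgroup.centralizer {x} : Subgroup G)) :
    Group.IsSolvable ↥N := by
  by_contra hNs
  have hxp : x ^ p = 1 := by rw [← hx]; exact pow_orderOf_eq_one x
  obtain ⟨K, hKn, hKs, hKmax⟩ := exists_radical G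
  have hKN : K ≤ N := le_of_solvable D hKn hKs
  have hsol := quot_radical K hKs hKmax
  set N' : Subgroup (G ⧸ K) := N.map (QuotientGroup.mk' K) with hN'
  have hN'n : N'.Normal := (inferInstance : N.Normal).map _ (QuotientGroup.mk'_surjective K)
  have hN'1 : N' ≠ ⊥ := by
    intro h
    apply hNs
    have h1 : N ≤ K := by
      intro k hk
      have h4 : QuotientGroup.mk' K k ∈ N' := ⟨k, hk, rfl⟩
      rw [h, Subgroup.mem_bot] at h4
      exact (QuotientGroup.eq_one_iff k).1 h4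
    exact Group.isSolvable_of_isSolvable_injective (Subgroup.inclusion_injective h1)
  obtain ⟨W, hWn, hW1, hWN, hWmin⟩ : ∃ W : Subgroup (G ⧸ K), W.Normal ∧ W ≠ ⊥ ∧ W ≤ N' ∧
      ∀ M : Subgroup (G ⧸ K), M.Normal → M ≤ W → M = ⊥ ∨ M = W := by
    obtain ⟨W, hW⟩ := (Set.toFinite {W : Subgroup (G ⧸ K) | W.Normal ∧ W ≠ ⊥ ∧ W ≤ N'}).exists_minimal
      ⟨N', hN'n, hN'1, le_rfl⟩
    obtain ⟨h1, h2, h3⟩ := hW.prop
    refine ⟨W, h1, h2, h3, fun M hM hMW => ?_⟩
    by_cases hM1 : M = ⊥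
    · exact Or.inl hM1
    · exact Or.inr (le_antisymm hMW (hW.le_of_le ⟨hM, hM1, hMW.trans h3⟩ hMW))
  have hWna : ¬ ∀ a ∈ W, ∀ b ∈ W, Commute a b := by
    intro hc
    apply hW1
    apply hsol W hWn
    exact Group.isSolvable_of_comm fun a b => Subtype.ext (hc a a.2 b b.2)
  have H : Str W := Str.of W hWmin hWna
  -- the map to `G / N`
  let f : G ⧸ K →* G ⧸ N := QuotientGroup.map K N (MonoidHom.id G) hKN
  have hfmk : ∀ g : G, f (QuotientGroup.mk' K g) = QuotientGroup.mk' N g := fun g => rfl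
  have hf : Function.Surjective f := by
    intro y
    obtain ⟨g, rfl⟩ := QuotientGroup.mk'_surjective N y
    exact ⟨QuotientGroup.mk' K g, rfl⟩
  have hker : f.ker = N' := by
    ext y
    obtain ⟨g, rfl⟩ := QuotientGroup.mk'_surjective K y
    rw [MonoidHom.mem_ker, hfmk]
    constructor
    · intro h
      exact ⟨g, (QuotientGroup.eq_one_iff g).1 h, rfl⟩
    · rintro ⟨m, hm, h⟩
      have h1 : g⁻¹ * m ∈ K := QuotientGroup.eq.1 h.symm
      have h2 : g ∈ N := by
        have h3 := mul_mem hm (inv_mem (hKN h1))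
        have h4 : m * (g⁻¹ * m)⁻¹ = g := by group
        rwa [h4] at h3
      exact (QuotientGroup.eq_one_iff g).2 h2
  have hfx : f (QuotientGroup.mk' K x) ∈ S := by
    rw [hfmk]
    have hSn := D.normal
    refine mem_of_pow_coprime S ((Nat.Prime.coprime_iff_not_dvd hp).2 hpi) ?_ ?_
    · rw [← map_pow, hxp, map_one]
      exact one_mem S
    · exact Subgroup.pow_index_mem S _
  have hfx1 : f (QuotientGroup.mk' K x) ≠ 1 := by
    rw [hfmk]
    intro h
    have h1 : x ∈ N := (QuotientGroup.eq_one_iff x).1 h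
    apply hpN
    rw [← hx, ← Subgroup.orderOf_mk x h1]
    exact orderOf_dvd_natCard _
  have hpk : ¬ p ∣ Nat.card f.ker := by
    rw [hker]
    intro h
    exact hpN (h.trans (Subgroup.card_map_dvd _ _))
  have hcs : Group.IsSolvable ↥(centralizer ({QuotientGroup.mk' K x} : Set (G ⧸ K)) ⊓ f.ker : Subgroup (G ⧸ K)) := by
    have hle : centralizer ({QuotientGroup.mk' K x} : Set (G ⧸ K)) ⊓ f.ker ≤
        (N ⊓ Subgroup.centralizer {x} : Subgroup G).map (QuotientGroup.mk' K) := by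
      rintro y ⟨hy1, hy2⟩
      rw [hker] at hy2
      obtain ⟨g, hg, rfl⟩ := hy2
      have h1 : g⁻¹ * (x * g * x⁻¹) ∈ K := by
        have h2 : QuotientGroup.mk' K (g⁻¹ * (x * g * x⁻¹)) = 1 := by
          have h3 := mem_centralizer_singleton_iff.1 hy1
          rw [map_mul, map_mul, map_mul, map_inv, map_inv, ← h3]
          group
        exact (QuotientGroup.eq_one_iff _).1 h2
      obtain ⟨k, hk, hk1, hk2⟩ := exists_lift hp hpN hxp hg h1
      refine ⟨g * k, ⟨hk1, mem_centralizer_singleton_iff.2 hk2.eq.symm⟩, ?_⟩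
      have h3 : QuotientGroup.mk' K k = 1 := (QuotientGroup.eq_one_iff _).2 hk
      rw [map_mul, h3, mul_one]
    have h2 : Group.IsSolvable ↥((N ⊓ Subgroup.centralizer {x} : Subgroup G).map (QuotientGroup.mk' K)) :=
      Group.isSolvable_of_surjective (f := (QuotientGroup.mk' K).subgroupMap _)
        ((QuotientGroup.mk' K).subgroupMap_surjective _)
    exact Group.isSolvable_of_isSolvable_injective (Subgroup.inclusion_injective hle)
  refine core f hf D.normal D.simple D.nonab hp hpk (x := QuotientGroup.mk' K x) (by rw [← map_pow, hxp, map_one])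
    hfx hfx1 hcs H (by rw [hker]; exact hWN) fun T => ?_
  have := H.simple T
  apply H254.isSolvable_out_of_sch
  refine Schreier.Assembly.known T.1 ?_ (hcl T.1)
  rintro ⟨⟨hc⟩⟩
  exact H.nonabelian T hc

/-- **Solvability of `N`.** -/
theorem Dat.solv_of_centralizer (hb : b ≤ 2) (hn : 13 ≤ n) (h : Spec b n G)
    (hout : ∀ {Q : Type u} [Group Q] [Finite Q]
      (_ : ∀ (T : Type u) [Group T] [Finite T] [IsSimpleGroup T], IsKnownSimple' T)
      (S : Subgroup Q) [S.Normal] (_ : IsSimpleGroup ↥S) (_ : ¬ IsMulCommutative ↥S)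
      (_ : Subgroup.centralizer (S : Set Q) = ⊥) {p : ℕ} (_ : p.Prime) (_ : 5 ≤ p) (_ : p ∣ S.index),
      ∃ q : ℕ, q.Prime ∧ q ∣ Nat.card ↥S ∧ 2 * p + 1 ≤ q)
    (hcl : ∀ (T : Type u) [Group T] [Finite T] [IsSimpleGroup T], IsKnownSimple' T)
    (D : Dat n N S) {p : ℕ} (hp : p.Prime) (hp2 : n < 2 * p)
    (hpN : ¬ p ∣ Nat.card ↥N) {x : G} (hx : orderOf x = p)
    (hs : Group.IsSolvable ↥(N ⊓ Subgroup.centralizer {x} : Subgroup G)) : Group.IsSolvable ↥N := by
  refine Dat.solv_of_centralizer' hcl D hp ?_ hpN hx hs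
  intro hd
  have hSn := D.normal
  obtain ⟨q, hq, hqS, hq2⟩ := hout hcl S D.simple D.nonab D.cent hp (by omega) hd
  have h1 : q ∣ Nat.card G := by
    rw [card_eq N S]
    exact hqS.mul_left _
  have h2 := (dvd_card_iff hb hn h hq).1 h1
  omega

end

end Cfsg.Agent.H532.Rec
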